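import Groth.Agent.Lib.MinModel32.Seq
import Groth.Agent.Lib.ArInter.NegDef
import Groth.Agent.Lib.ArInter.Exc
import Groth.Agent.Lib.ArInter.RedFibre
import Groth.Agent.Lib.BlowUpExist.Local
import Groth.Agent.S15544
import Mathlib

/-!
# Minimal desingularisations of normal fibred surfaces
-/

set_option autoImplicit false
set_option linter.style.haveILetI false
set_option linter.unusedSectionVars false
set_option backward.isDefEq.respectTransparency false
set_option maxHeartbeats 1000000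

universe u

open CategoryTheory CategoryTheory.Limits AlgebraicGeometry TopologicalSpace

noncomputable section

namespace Groth.Agent.MinDesing

/-- Effective Cartier curves move along a common open neighbourhood. -/
theorem eff_transfer {W X Y E : Scheme.{u}} (j : W ⟶ X) [IsOpenImmersion j] (j' : W ⟶ Y) [IsOpenImmersion j']
    (ι₀ : E ⟶ W) [IsClosedImmersion (ι₀ ≫ j)] [IsClosedImmersion (ι₀ ≫ j')]
    (hX : BlowUp.IsEffCartierIdeal (ι₀ ≫ j).ker) : BlowUp.IsEffCartierIdeal (ι₀ ≫ j').ker := by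
  classical
  let V : Y.Opens := ⟨(Set.range (ι₀ ≫ j'))ᶜ, (ι₀ ≫ j').isClosedEmbedding.isClosed_range.isOpen_compl⟩
  let F : ∀ i : Bool, (if i then W else (V : Scheme.{u})) ⟶ Y := fun i => match i with | true => j' | false => V.ι
  haveI : ∀ i, IsOpenImmersion (F i) := fun i => by
    cases i
    · exact inferInstanceAs (IsOpenImmersion V.ι)
    · exact ‹IsOpenImmersion j'›
  refine BlowUpExist.isEffCartierIdeal_of_cover F ?_ ?_
  · intro y
    by_cases hy : y ∈ Set.range (ι₀ ≫ j')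
    · obtain ⟨w, rfl⟩ := hy
      exact ⟨true, ι₀ w, rfl⟩
    · exact ⟨false, ⟨y, hy⟩, rfl⟩
  · intro i
    cases i with
    | true =>
      have H : IsPullback (𝟙 E) ι₀ (ι₀ ≫ j') j' := by
        refine (IsOpenImmersion.isPullback ι₀ (𝟙 E) j' (ι₀ ≫ j') (Category.id_comp _) (Opens.ext ?_)).flip
        show (ι₀ ≫ j') ⁻¹' Set.range j' = Set.range (𝟙 E : E ⟶ E)
        ext w
        exact ⟨fun _ => ⟨w, rfl⟩, fun _ => ⟨ι₀ w, rfl⟩⟩
      show BlowUp.IsEffCartierIdeal ((ι₀ ≫ j').ker.comap j')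
      rw [SchImage14.ker_comap_of_flat H]
      exact (MinModel.exc_pull_open j ι₀ hX (𝟙 E)).1
    | false =>
      show BlowUp.IsEffCartierIdeal ((ι₀ ≫ j').ker.comap V.ι)
      have : (ι₀ ≫ j').ker.comap V.ι = ⊤ := by
        rw [← Scheme.IdealSheafData.support_eq_bot_iff, Scheme.IdealSheafData.support_comap]
        refine Closeds.ext (Set.eq_empty_iff_forall_notMem.2 fun v hv => ?_)
        have h1 : V.ι v ∈ ((ι₀ ≫ j').ker.support : Set Y) := hv
        rw [Scheme.Hom.support_ker] at h1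
        exact v.2 ((ι₀ ≫ j').isClosedEmbedding.isClosed_range.closure_eq.le h1)
      rw [this]
      exact EffCartier.isEffCartierIdeal_top

theorem exc_push {W X Y E : Scheme.{u}} (j : W ⟶ X) [IsOpenImmersion j] (j' : W ⟶ Y) [IsOpenImmersion j']
    (ι₀ : E ⟶ W) [IsClosedImmersion (ι₀ ≫ j)] [IsClosedImmersion (ι₀ ≫ j')]
    (h : Models.IsExcCurve (ι₀ ≫ j)) : Models.IsExcCurve (ι₀ ≫ j') :=
  MinModel.exc_transfer j j' ι₀ (eff_transfer j j' ι₀ h.1) h

variable {R : Type u} [CommRing R] [IsDomain R] [IsDiscreteValuationRing R]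

theorem exists_vert {X : Over (Spec (CommRingCat.of R))} {E : Scheme.{u}} (ι : E ⟶ X.left)
    [IsClosedImmersion ι] (hι : Models.IsExcCurve ι) (hE : ∀ w, X.hom (ι w) = IsLocalRing.closedPoint R) :
    ∃ Γ : ArSurf.VertComp R X, Models.IsExcCurve Γ.ι ∧ Set.range Γ.ι = Set.range ι := by
  obtain ⟨-, k, _, e, -⟩ := id hι
  haveI : IsIntegral (CohB1.ProjSpace 1 k) := RegExt.isIntegral_projSpace 1 k
  haveI : Nonempty E := ⟨e.hom (genericPoint _)⟩
  haveI : IsIntegral E := isIntegral_of_isOpenImmersion e.inv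
  let φ : R →+* Γ(E, ⊤) := Coh.toGlobal (ι ≫ X.hom)
  have hker : ∀ r ∈ IsLocalRing.maximalIdeal R, φ r = 0 := fun r hr => by
    rw [← basicOpen_eq_bot_iff]
    refine eq_bot_iff.mpr fun y hy => ?_
    have h1 : E.basicOpen (φ r) = (ι ≫ X.hom) ⁻¹ᵁ PrimeSpectrum.basicOpen r := by
      rw [← basicOpen_eq_of_affine (R := CommRingCat.of R) r, Scheme.preimage_basicOpen]
      rfl
    rw [h1] at hy
    have hy' : r ∉ ((ι ≫ X.hom) y).asIdeal := hy
    rw [show (ι ≫ X.hom) y = IsLocalRing.closedPoint R from hE y] at hy'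
    exact absurd hr hy'
  let φk : IsLocalRing.ResidueField R →+* Γ(E, ⊤) := Ideal.Quotient.lift _ φ hker
  refine ⟨⟨Over.mk (E.toSpecΓ ≫ Spec.map (CommRingCat.ofHom φk)), ι, inferInstance, ‹IsIntegral E›, ?_, ?_⟩,
    hι, rfl⟩
  · show topologicalKrullDim E = 1
    rw [← e.hom.homeomorph.isHomeomorph.topologicalKrullDim_eq]
    rw [Groth.Agent.S10829.result k 1]; rfl
  · show ι ≫ X.hom = (E.toSpecΓ ≫ Spec.map (CommRingCat.ofHom φk)) ≫
      Spec.map (CommRingCat.ofHom (IsLocalRing.residue R))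
    rw [Category.assoc, ← Spec.map_comp]
    refine (Eq.trans ?_ (congrArg (E.toSpecΓ ≫ ·) rfl)).trans rfl
    conv_lhs => rw [← ArInter.toSpecΓ_comp_map (ι ≫ X.hom)]
    rfl

theorem bot_specializes (s : Spec (CommRingCat.of R)) :
    ((⟨⊥, Ideal.isPrime_bot⟩ : PrimeSpectrum R) : Spec (CommRingCat.of R)) ⤳ s :=
  (PrimeSpectrum.le_iff_specializes _ s).1 bot_le

theorem noChain_of_seq {Z X : Scheme.{u}} {h : Z ⟶ X} (hh : Models.IsContractionSeq h) :
    RelMin.NoChain X → RelMin.NoChain Z := by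
  induction hh with
  | iso e =>
    exact fun hc a b c d hab hbc hcd nab nbc ncd => hc _ _ _ _ (hab.map e.hom.continuous)
      (hbc.map e.hom.continuous) (hcd.map e.hom.continuous) (fun he => nab (e.hom.homeomorph.injective he))
      (fun he => nbc (e.hom.homeomorph.injective he)) (fun he => ncd (e.hom.homeomorph.injective he))
  | @step Y' Z' X' E ι b r _ _ hb _ ih =>
    intro hc
    obtain ⟨hN, hbp, y, hy, -, hreg, hdim, hblow⟩ := hb
    haveI := hN; haveI := hreg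
    exact PointBlowUp.noChain hy hblow hdim (ih hc)

variable {Y : Over (Spec (CommRingCat.of R))} [IsIntegral Y.left] [IsProper Y.hom]

/-- A vector supported on curves contracted to a normal point has negative square. -/
theorem form_neg (hnor : ∀ q : Y.left, IsIntegrallyClosed (Y.left.presheaf.stalk q))
    {Z : Over (Spec (CommRingCat.of R))} (hS : ArInter.IsSurf Z) (f : Z.left ⟶ Y.left) (hw : f ≫ Y.hom = Z.hom)
    (hbir : ∃ U : Y.left.Opens, (U : Set Y.left).Nonempty ∧ IsIso (f ∣_ U)) (y : Y.left)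
    {r : ℕ} (Γ : Fin r → ArSurf.VertComp R Z)
    (hΓ : Function.Injective fun i => Set.range ((Γ i).ι.base : (Γ i).curve.left → Z.left))
    (hfΓ : ∀ p (z : (Γ p).curve.left), f ((Γ p).ι.base z) = y)
    (L : Fin r → Z.left.Modules) (hL : ∀ j, ClSub.IsInverseOf (L j) (ClSub.idealMod (Γ j).ι.ker))
    (x : Fin r → ℤ) (hx : x ≠ 0) :
    (Finset.univ : Finset (Fin r × Fin r)).sum (fun p => x p.1 * x p.2 * ArSurf.inter R Z (L p.2) (Γ p.1)) < 0 := by
  classical
  haveI := hS.proper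
  haveI := hS.integral
  haveI : IsProper (f ≫ Y.hom) := by rw [hw]; infer_instance
  haveI : IsProper f := IsProper.of_comp f Y.hom
  haveI : IsLocallyNoetherian Y.left := LocallyOfFiniteType.isLocallyNoetherian Y.hom
  obtain ⟨U, ⟨u, hu⟩, hU⟩ := hbir
  have hgY : genericPoint Y.left ∈ U :=
    ((genericPoint_spec Y.left).mem_open_set_iff U.isOpen).mpr ⟨u, trivial, hu⟩
  obtain ⟨x₀', hx₀'⟩ := (ConcreteCategory.bijective_of_isIso (f ∣_ U).base).2 ⟨genericPoint Y.left, hgY⟩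
  have hx₀ : f ((f ⁻¹ᵁ U).ι x₀') = genericPoint Y.left := by
    have h1 := congrArg (fun g => g x₀') (congrArg (fun t => t.base) (morphismRestrict_ι f U))
    refine (h1.symm.trans ?_)
    exact congrArg (fun z : U => (z : Y.left)) hx₀'
  have hgen : f (genericPoint Z.left) = genericPoint Y.left :=
    (hx₀ ▸ (genericPoint_specializes ((f ⁻¹ᵁ U).ι x₀')).map f.continuous :
      f (genericPoint Z.left) ⤳ genericPoint Y.left).antisymm (genericPoint_specializes _) |>.eq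
  haveI : IsIso (f.stalkMap (genericPoint Z.left)) := by
    have hmem : genericPoint Z.left ∈ f ⁻¹ᵁ U := by
      show f (genericPoint Z.left) ∈ U
      rw [hgen]; exact hgY
    haveI := hU
    haveI : IsOpenImmersion (f ∣_ U) := IsOpenImmersion.of_isIso _
    have h1 : IsIso ((f ∣_ U).stalkMap ⟨genericPoint Z.left, hmem⟩) := inferInstance
    exact ((MorphismProperty.isomorphisms CommRingCat.{u}).arrow_mk_iso_iff
      (morphismRestrictStalkMap f U ⟨genericPoint Z.left, hmem⟩)).1 h1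
  have hsurj : Function.Surjective f := fun z =>
    (genericPoint_specializes z).mem_closed f.isClosedMap.isClosed_range ⟨_, hgen⟩
  by_contra hge
  rw [not_lt] at hge
  obtain ⟨p₀, S, C', hp₀, hC, hC', hdisj, hcov⟩ := ArInter.exists_split_of_form_nonneg hS Γ hΓ L hL x hx hge
  let C : Set Z.left := ⋃ p ∈ S, Set.range (Γ p).ι.base
  let γ : Z.left := (Γ p₀).ι.base (genericPoint ↥(Γ p₀).curve.left)
  have hγC : γ ∈ C := Set.mem_biUnion (s := S) hp₀ ⟨_, rfl⟩
  have hys : Y.hom y = IsLocalRing.closedPoint R := by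
    rw [← hfΓ p₀ (genericPoint ↥(Γ p₀).curve.left), ← Scheme.Hom.comp_apply, hw]
    exact ArInter.genPtOf_mem_specialFibreSet (Γ p₀)
  have hF : f ⁻¹' {y} ⊆ Models.specialFibreSet R Z := fun z hz => by
    show Z.hom z = _
    rw [← hw, Scheme.Hom.comp_apply, (hz : f z = y), hys]
  have hconn : _root_.IsPreconnected (f ⁻¹' {y}) := by
    haveI := Groth.Agent.S15544.result (fun q => ⟨inferInstance, hnor q⟩) f hgen inferInstance y
    rw [← f.range_fiberι y]
    exact isPreconnected_range (f.fiberι y).continuous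
  have hnot : y ∉ f '' C' := by
    rintro ⟨z, hz, hzy⟩
    obtain ⟨w', -, hw1, hw2⟩ := isPreconnected_closed_iff.1 hconn C C' hC hC'
      (fun v hv => hcov v (hF hv)) ⟨γ, hfΓ p₀ _, hγC⟩ ⟨z, hzy, hz⟩
    exact Set.disjoint_left.1 hdisj hw1 hw2
  have hiso : ∀ z : Y.left, z ⤳ y → Y.hom z = IsLocalRing.closedPoint R → z = y := fun z hzy hzs => by
    obtain ⟨v, rfl⟩ := hsurj z
    have hv : v ∈ Models.specialFibreSet R Z := by
      show Z.hom v = _
      rw [← hw, Scheme.Hom.comp_apply, hzs]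
    rcases hcov v hv with h | h
    · obtain ⟨p, -, c, rfl⟩ := Set.mem_iUnion₂.1 h
      exact hfΓ p c
    · exact absurd (hzy.mem_closed (f.isClosedMap _ hC') ⟨v, h, rfl⟩) hnot
  haveI := hnor y
  have hval := ArInter.valuationRing_of_isolated y hys hiso
  obtain ⟨c, hc⟩ : ∃ c : (Γ p₀).curve.left, c ≠ genericPoint ↥(Γ p₀).curve.left := by
    by_contra h
    push Not at h
    haveI : Subsingleton (Γ p₀).curve.left := ⟨fun a b => (h a).trans (h b).symm⟩
    have h2 : topologicalKrullDim (Γ p₀).curve.left ≤ 0 := by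
      haveI : Subsingleton (TopologicalSpace.IrreducibleCloseds (Γ p₀).curve.left) := ⟨fun A B =>
        TopologicalSpace.IrreducibleCloseds.ext (by
          obtain ⟨a, ha⟩ := A.isIrreducible'.nonempty
          obtain ⟨b, hb⟩ := B.isIrreducible'.nonempty
          ext z
          exact ⟨fun _ => Subsingleton.elim b z ▸ hb, fun _ => Subsingleton.elim a z ▸ ha⟩)⟩
      exact Order.krullDim_nonpos_of_subsingleton
    rw [(Γ p₀).dim_eq] at h2
    exact absurd h2 (by decide)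
  have hspec : γ ⤳ (Γ p₀).ι.base c := (genericPoint_specializes c).map (Γ p₀).ι.continuous
  haveI : ValuationRing (Y.left.presheaf.stalk (f ((Γ p₀).ι.base c))) := by
    rw [hfΓ p₀ c]; exact hval
  have heq := Groth.Agent.DVRTensor.eq_of_specializes_of_valuationRing f hgen hspec
    ((hfΓ p₀ _).trans (hfΓ p₀ c).symm)
  exact hc ((Γ p₀).ι.isEmbedding.injective heq).symm

/-- Two exceptional curves over one normal point do not meet. -/
theorem exc_disjoint (hnor : ∀ q : Y.left, IsIntegrallyClosed (Y.left.presheaf.stalk q))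
    {Z : Over (Spec (CommRingCat.of R))} (hS : ArInter.IsSurf Z) (f : Z.left ⟶ Y.left) (hw : f ≫ Y.hom = Z.hom)
    (hbir : ∃ U : Y.left.Opens, (U : Set Y.left).Nonempty ∧ IsIso (f ∣_ U)) (y : Y.left)
    (Γ : Fin 2 → ArSurf.VertComp R Z) (hi : ∀ i, Models.IsExcCurve (Γ i).ι)
    (hne : Set.range (Γ 0).ι.base ≠ Set.range (Γ 1).ι.base) (hfΓ : ∀ p (z : (Γ p).curve.left), f ((Γ p).ι.base z) = y) :
    Disjoint (Set.range (Γ 0).ι.base) (Set.range (Γ 1).ι.base) := by
  classical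
  have hinj : Function.Injective fun i => Set.range ((Γ i).ι.base : (Γ i).curve.left → Z.left) := fun a b h => by
    fin_cases a <;> fin_cases b
    all_goals first | rfl | exact (hne h).elim | exact (hne h.symm).elim
  have hE := fun l => (hi l).1
  let L : Fin 2 → Z.left.Modules := fun l => M2.dualMod (ClSub.idealMod (Γ l).ι.ker)
  have hL : ∀ l, ClSub.IsInverseOf (L l) (ClSub.idealMod (Γ l).ι.ker) :=
    fun l => ⟨M2.dualTensorIso (M2.isInvertible_idealMod _ (hE l))⟩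
  obtain ⟨h0, hd⟩ := ArInter.inter_offDiag_nonneg hS hinj hL (i := 0) (j := 1) (by decide)
  by_contra hnot
  have hpos : 0 < ArSurf.inter R Z (L 1) (Γ 0) := lt_of_le_of_ne h0 fun e => hnot (hd e.symm)
  obtain ⟨-, h00⟩ := ArInter.numerics_of_isExcCurve hS (Γ 0) (hE 0) (hL 0) (hi 0)
  obtain ⟨-, h11⟩ := ArInter.numerics_of_isExcCurve hS (Γ 1) (hE 1) (hL 1) (hi 1)
  have hsymm := ArInter.inter_symm hS hinj hL 0 1
  have hw0 := Int.le_of_dvd hpos (ArInter.wdeg_dvd_inter hS (Γ 0) (L 1))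
  have hw1 := Int.le_of_dvd (hsymm ▸ hpos) (ArInter.wdeg_dvd_inter hS (Γ 1) (L 0))
  have h := form_neg hnor hS f hw hbir y Γ hinj hfΓ L hL (fun _ => 1) (fun h => one_ne_zero (congrFun h 0))
  rw [Fintype.sum_prod_type, Fin.sum_univ_two, Fin.sum_univ_two, Fin.sum_univ_two] at h
  simp only [one_mul] at h
  linarith

/-- What is carried along a contraction sequence. -/
structure Nice (Y : Over (Spec (CommRingCat.of R))) {Z : Scheme.{u}} (g : Z ⟶ Y.left) : Prop where
  surf : ArInter.IsSurf (Over.mk (g ≫ Y.hom))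
  reg : ∀ z : Z, IsRegularLocalRing (Z.presheaf.stalk z)
  noeth : IsNoetherian Z
  noChain : RelMin.NoChain Z
  bir : ∃ U : Y.left.Opens, (U : Set Y.left).Nonempty ∧ IsIso (g ∣_ U)

theorem Nice.isProper {Z : Scheme.{u}} {g : Z ⟶ Y.left} (hg : Nice Y g) : IsProper g := by
  haveI : IsProper (g ≫ Y.hom) := hg.surf.proper
  exact IsProper.of_comp g Y.hom

theorem Nice.bir_gen {Z : Scheme.{u}} {g : Z ⟶ Y.left} (hg : Nice Y g) [Flat Y.hom] :
    ∃ U : Y.left.Opens, (U : Set Y.left).Nonempty ∧ IsIso (g ∣_ U) ∧ U ≤ Y.hom ⁻¹ᵁ MinModel.genU R := by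
  obtain ⟨U, hU, hi⟩ := hg.bir
  refine ⟨U ⊓ Y.hom ⁻¹ᵁ MinModel.genU R, ?_, ?_, inf_le_right⟩
  · have h1 : genericPoint Y.left ∈ U := ((genericPoint_spec Y.left).mem_open_set_iff U.isOpen).mpr
      (by obtain ⟨u, hu⟩ := hU; exact ⟨u, trivial, hu⟩)
    refine ⟨genericPoint Y.left, h1, fun h => ?_⟩
    obtain ⟨x', hx', hp⟩ := Flat.generalizingMap Y.hom (bot_specializes (Y.hom (genericPoint Y.left)))
    obtain rfl : x' = genericPoint Y.left := (hx'.antisymm (genericPoint_specializes x')).eq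
    rw [show Y.hom (genericPoint Y.left) = IsLocalRing.closedPoint R from h] at hp
    exact IsDiscreteValuationRing.not_a_field R (congrArg PrimeSpectrum.asIdeal hp)
  · haveI := hi
    exact CurveBlowUp.isIso_restrict_of_le g inf_le_left

variable [Flat Y.hom]

theorem Nice.of_seq {Z X : Scheme.{u}} {h : Z ⟶ X} (hh : Models.IsContractionSeq h) :
    ∀ g : X ⟶ Y.left, Nice Y g → Nice Y (h ≫ g) := by
  intro g hg
  haveI := hg.noeth
  haveI := hg.surf.proper
  haveI : IsIntegral X := hg.surf.integral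
  haveI : IsProper (g ≫ Y.hom) := hg.surf.proper
  obtain ⟨hp, hiso⟩ := MinModel.genIso_of_seq hh (g ≫ Y.hom) inferInstance
  haveI := hp
  obtain ⟨W, hW, hWi, hWle⟩ := hg.bir_gen
  haveI := hWi
  haveI := hiso
  haveI : IsIso (h ∣_ (g ⁻¹ᵁ W)) := CurveBlowUp.isIso_restrict_of_le h
    (show g ⁻¹ᵁ W ≤ (g ≫ Y.hom) ⁻¹ᵁ MinModel.genU R from fun x hx => hWle hx)
  have hgenW : genericPoint Y.left ∈ W := ((genericPoint_spec Y.left).mem_open_set_iff W.isOpen).mpr
    (by obtain ⟨u, hu⟩ := hW; exact ⟨u, trivial, hu⟩)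
  obtain ⟨v, hv⟩ := (g ∣_ W).surjective ⟨_, hgenW⟩
  have hclosed : ∀ x : X, IsClosed ({x} : Set X) → ¬ IsGenericPoint x (Set.univ : Set X) := fun x hx hgen => by
    have h1 : (g ⁻¹ᵁ W).ι v ∈ ({x} : Set X) := (hgen.specializes (Set.mem_univ _)).mem_closed hx rfl
    refine hWle v.2 ?_
    show (g ≫ Y.hom) ((g ⁻¹ᵁ W).ι v) = IsLocalRing.closedPoint R
    rw [Set.mem_singleton_iff.1 h1]
    exact MinModel.closed_over (g ≫ Y.hom) hx
  obtain ⟨hZi, -, -, -⟩ := RegRat.seq_props hh inferInstance inferInstance hclosed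
  haveI := hZi
  haveI : IsProper ((h ≫ g) ≫ Y.hom) := by rw [Category.assoc]; infer_instance
  haveI : IsProper (Over.mk ((h ≫ g) ≫ Y.hom)).hom := ‹_›
  have hbir : IsIso ((h ≫ g) ∣_ W) := by rw [morphismRestrict_comp]; infer_instance
  have hflat : Flat ((h ≫ g) ≫ Y.hom) := by
    haveI : IsDominant ((h ≫ g) ≫ Y.hom) := ⟨fun s => by
      have hs : (⟨⊥, Ideal.isPrime_bot⟩ : PrimeSpectrum R) ⤳ (s : PrimeSpectrum R) :=
        (PrimeSpectrum.le_iff_specializes _ _).1 bot_le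
      refine closure_mono (Set.singleton_subset_iff.2 ?_) (specializes_iff_mem_closure.1 hs)
      obtain ⟨z, hz⟩ := ((h ≫ g) ∣_ W).surjective ⟨_, hgenW⟩
      refine ⟨((h ≫ g) ⁻¹ᵁ W).ι z, ?_⟩
      rw [Scheme.Hom.comp_apply (h ≫ g), ← Scheme.Hom.comp_apply _ (h ≫ g), ← morphismRestrict_ι,
        Scheme.Hom.comp_apply, hz]
      obtain ⟨x', hx', hp⟩ := Flat.generalizingMap Y.hom (bot_specializes (Y.hom (genericPoint Y.left)))
      obtain rfl : x' = genericPoint Y.left := (hx'.antisymm (genericPoint_specializes x')).eq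
      exact hp⟩
    exact SubSpec19.flat_of_isIntegral _
  refine ⟨⟨inferInstanceAs (IsProper ((h ≫ g) ≫ Y.hom)), hZi, hflat⟩,
    fun z => PointBlowUp.isRegularLocalRing_of_seq hh z (hg.reg _), ?_, ?_, W, hW, hbir⟩
  · haveI : IsLocallyNoetherian Z := LocallyOfFiniteType.isLocallyNoetherian ((h ≫ g) ≫ Y.hom)
    haveI : CompactSpace Z := QuasiCompact.compactSpace_of_compactSpace ((h ≫ g) ≫ Y.hom)
    exact ⟨⟩
  · exact noChain_of_seq hh hg.noChain

/-- A sequence of contractions onto a surface without contracted exceptional curves contracts them all. -/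
theorem exc_contracted (hnor : ∀ q : Y.left, IsIntegrallyClosed (Y.left.presheaf.stalk q))
    {Z X : Scheme.{u}} {h : Z ⟶ X} (hh : Models.IsContractionSeq h) :
    ∀ (g : X ⟶ Y.left), Nice Y g →
      (∀ (E : Scheme.{u}) (ι : E ⟶ X) [IsClosedImmersion ι], Models.IsExcCurve ι →
        ¬ ∃ y : Y.left, Set.range ((ι ≫ g).base : E → Y.left) = {y}) →
      ∀ {E : Scheme.{u}} (ι : E ⟶ Z) [IsClosedImmersion ι], Models.IsExcCurve ι →
        ∀ y : Y.left, Y.hom y = IsLocalRing.closedPoint R → (∀ w, g (h (ι w)) = y) →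
          ∃ x, ∀ w, h (ι w) = x := by
  induction hh with
  | @iso Z X e =>
    intro g hg hexc E ι _ hι y _ hy
    exfalso
    haveI : IsClosedImmersion (ι ≫ 𝟙 Z) := by rw [Category.comp_id]; infer_instance
    have h1 : Models.IsExcCurve (ι ≫ e.hom) := exc_push (𝟙 Z) e.hom ι (by rwa [Category.comp_id])
    obtain ⟨-, k, _, e', -⟩ := id hι
    haveI : Nonempty E := ⟨e'.hom (PointBlowUp.P1_points k).choose⟩
    exact hexc E (ι ≫ e.hom) h1 ⟨y, Set.eq_singleton_iff_unique_mem.2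
      ⟨⟨Classical.arbitrary E, hy _⟩, by rintro _ ⟨w, rfl⟩; exact hy w⟩⟩
  | @step Z Z₁ X F ι' b r hι' hF hb hr ih =>
    intro g hg hexc E ι _ hι y hys hy
    haveI := hι'
    have hN₁ := Nice.of_seq hr g hg
    have hN := Nice.of_seq (Models.IsContractionSeq.step ι' b r hι' hF hb hr) g hg
    haveI : IsProper ((r ≫ g) ≫ Y.hom) := hN₁.surf.proper
    obtain ⟨hNo, hbp, z, hz, hrange, hreg, hdim, hblow⟩ := id hb
    haveI := hNo; haveI := hbp; haveI := hreg
    have hF' : ∀ w, b (ι' w) = z := fun w => by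
      have : (ι' ≫ b) w ∈ Set.range ((ι' ≫ b).base : F → Z₁) := ⟨w, rfl⟩
      rw [hrange] at this
      exact this
    by_cases hsame : Set.range ι = Set.range ι'
    · refine ⟨r z, fun w => ?_⟩
      obtain ⟨w', hw'⟩ : ι w ∈ Set.range ι' := hsame.le ⟨w, rfl⟩
      rw [Scheme.Hom.comp_apply, ← hw', hF']
    have hdis : Disjoint (Set.range ι) (Set.range ι') := by
      by_contra hnot
      obtain ⟨a, ⟨w₁, hw₁⟩, ⟨w₂, hw₂⟩⟩ := Set.not_disjoint_iff.1 hnot
      have hyF : g (r z) = y := by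
        rw [← hF' w₂, hw₂, ← hw₁]; exact hy w₁
      let Zo : Over (Spec (CommRingCat.of R)) := Over.mk (((b ≫ r) ≫ g) ≫ Y.hom)
      obtain ⟨ΓE, hΓE, hrE⟩ := exists_vert (X := Zo) ι hι fun w => by
        show Y.hom (g ((b ≫ r) (ι w))) = _
        rw [hy w, hys]
      obtain ⟨ΓF, hΓF, hrF⟩ := exists_vert (X := Zo) ι' hF fun w => by
        show Y.hom (g (r (b (ι' w)))) = _
        rw [hF', hyF, hys]
      have := exc_disjoint hnor (Z := Zo) hN.surf ((b ≫ r) ≫ g) rfl hN.bir y ![ΓE, ΓF]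
        (fun l => by fin_cases l <;> assumption) (fun h => hsame ((hrE.symm.trans h).trans hrF))
        (fun l c => by
          fin_cases l
          · obtain ⟨w, hw⟩ : ΓE.ι c ∈ Set.range ι := hrE.le ⟨c, rfl⟩
            show g ((b ≫ r) (ΓE.ι c)) = y
            rw [← hw]; exact hy w
          · obtain ⟨w, hw⟩ : ΓF.ι c ∈ Set.range ι' := hrF.le ⟨c, rfl⟩
            show g (r (b (ΓF.ι c))) = y
            rw [← hw, hF', hyF])
      exact hnot (hrE ▸ hrF ▸ this)
    have hout : ∀ w, b (ι w) ≠ z := fun w hw =>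
      Set.disjoint_left.1 hdis ⟨w, rfl⟩ (PointBlowUp.mem_range_of_over b hz hblow hdim ι' hF hF' hw)
    let U : Z₁.Opens := ⟨{z}ᶜ, hz.isOpen_compl⟩
    haveI : IsIso (b ∣_ U) := PointBlowUp.isIso_restrict hz hblow
    have hW : Set.range ι ⊆ Set.range (b ⁻¹ᵁ U).ι := by
      rw [Scheme.Opens.range_ι]
      rintro _ ⟨w, rfl⟩
      exact hout w
    let ι₀ := IsOpenImmersion.lift (b ⁻¹ᵁ U).ι ι hW
    have hι₀ : ι₀ ≫ (b ⁻¹ᵁ U).ι = ι := IsOpenImmersion.lift_fac _ _ _
    haveI : IsClosedImmersion (ι₀ ≫ (b ⁻¹ᵁ U).ι) := hι₀.symm ▸ ‹IsClosedImmersion ι›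
    haveI : IsClosedImmersion ι₀ := IsClosedImmersion.of_comp ι₀ (b ⁻¹ᵁ U).ι
    let k := (b ∣_ U) ≫ U.ι
    have hk : ι₀ ≫ k = ι ≫ b := by
      rw [show k = (b ⁻¹ᵁ U).ι ≫ b from morphismRestrict_ι b U, ← Category.assoc, hι₀]
    haveI : IsClosedImmersion (ι ≫ b) := by
      haveI : IsPreimmersion (ι ≫ b) := by rw [← hk]; infer_instance
      refine IsClosedImmersion.of_isPreimmersion _ ?_
      rw [Scheme.Hom.comp_base, TopCat.coe_comp, Set.range_comp]
      exact b.isClosedMap _ ι.isClosedEmbedding.isClosed_range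
    haveI : IsClosedImmersion (ι₀ ≫ k) := by rw [hk]; infer_instance
    have h1 : Models.IsExcCurve (ι₀ ≫ k) := exc_push (b ⁻¹ᵁ U).ι k ι₀ (by rw [hι₀]; exact hι)
    rw [hk] at h1
    obtain ⟨x, hx⟩ := ih g hg hexc (ι ≫ b) h1 y hys fun w => hy w
    exact ⟨x, fun w => hx w⟩

/-- Descent along a contraction sequence. -/
theorem exists_descend (hnor : ∀ q : Y.left, IsIntegrallyClosed (Y.left.presheaf.stalk q))
    {X : Scheme.{u}} (g : X ⟶ Y.left) (hg : Nice Y g)
    (hexc : ∀ (E : Scheme.{u}) (ι : E ⟶ X) [IsClosedImmersion ι], Models.IsExcCurve ι →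
      ¬ ∃ y : Y.left, Set.range ((ι ≫ g).base : E → Y.left) = {y})
    {Z X' : Scheme.{u}} {b : Z ⟶ X'} (hb : Models.IsContractionSeq b) :
    ∀ (g' : X' ⟶ Y.left), Nice Y g' → ∀ (h : Z ⟶ X), h ≫ g = b ≫ g' → ∃ ψ : X' ⟶ X, b ≫ ψ = h := by
  induction hb with
  | @iso Z X' e => exact fun g' _ h _ => ⟨e.inv ≫ h, by simp⟩
  | @step Z Z₁ X' E ι c r hι hE hc hr ih =>
    intro g' hg' h hw
    haveI := hι
    have hN₁ := Nice.of_seq hr g' hg'
    have hN := Nice.of_seq (Models.IsContractionSeq.step ι c r hι hE hc hr) g' hg'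
    haveI := hN.noeth; haveI := hg.noeth; haveI := hg.isProper
    haveI : IsIntegral X := hg.surf.integral
    haveI : IsIntegral Z := hN.surf.integral
    haveI : IsProper (h ≫ g) := hw ▸ hN.isProper
    haveI : IsProper h := IsProper.of_comp h g
    have hseq : Models.IsContractionSeq h := by
      obtain ⟨W₁, hW₁, hi₁⟩ := hN.bir
      obtain ⟨W₂, hW₂, hi₂⟩ := hg.bir
      haveI := hi₁; haveI := hi₂
      let W := W₁ ⊓ W₂
      have hgW : genericPoint Y.left ∈ W := ⟨((genericPoint_spec Y.left).mem_open_set_iff W₁.isOpen).mpr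
        (by obtain ⟨u, hu⟩ := hW₁; exact ⟨u, trivial, hu⟩), ((genericPoint_spec Y.left).mem_open_set_iff W₂.isOpen).mpr
        (by obtain ⟨u, hu⟩ := hW₂; exact ⟨u, trivial, hu⟩)⟩
      haveI : IsIso (g ∣_ W) := CurveBlowUp.isIso_restrict_of_le g inf_le_right
      haveI : IsIso (((c ≫ r) ≫ g') ∣_ W) := CurveBlowUp.isIso_restrict_of_le _ inf_le_left
      have : IsIso ((h ≫ g) ∣_ W) := by rw [hw]; infer_instance
      rw [morphismRestrict_comp] at this
      haveI : IsIso (h ∣_ (g ⁻¹ᵁ W)) := IsIso.of_isIso_comp_right _ (g ∣_ W)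
      obtain ⟨v, -⟩ := (g ∣_ W).surjective ⟨_, hgW⟩
      exact PointBlowUp.isContractionSeq_of_birational _ Z X h hN.noChain hN.reg hg.noChain hg.reg
        ⟨g ⁻¹ᵁ W, ⟨_, v.2⟩, inferInstance⟩ le_rfl
    obtain ⟨hNo, hcp, z, hz, hrange, -⟩ := id hc
    haveI : IsProper ((r ≫ g') ≫ Y.hom) := hN₁.surf.proper
    have hcι : ∀ w, c (ι w) = z := fun w => by
      have : (ι ≫ c) w ∈ Set.range ((ι ≫ c).base : E → Z₁) := ⟨w, rfl⟩
      rw [hrange] at this
      exact this
    obtain ⟨x, hx⟩ := exc_contracted hnor hseq g hg hexc ι hE ((r ≫ g') z)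
      (MinModel.closed_over ((r ≫ g') ≫ Y.hom) hz) fun w => by
        rw [← Scheme.Hom.comp_apply h g, hw, ← hcι w]; rfl
    obtain ⟨ψ₁, hψ₁, -⟩ := PointBlowUp.contraction_universal ι hE c hc h x hx
    obtain ⟨_, _, huniq⟩ := PointBlowUp.contraction_universal ι hE c hc (h ≫ g) (g x)
      (fun w => congrArg g (hx w))
    have hw₁ : ψ₁ ≫ g = r ≫ g' :=
      (huniq (ψ₁ ≫ g) (by show c ≫ ψ₁ ≫ g = _; rw [← Category.assoc, hψ₁])).trans
        (huniq (r ≫ g') (by show c ≫ r ≫ g' = _; rw [hw, Category.assoc])).symm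
    obtain ⟨ψ, hψ⟩ := ih g' hg' ψ₁ hw₁
    exact ⟨ψ, by rw [Category.assoc, hψ, hψ₁]⟩

/-- The universal property. -/
theorem existsUnique_hom (hnor : ∀ q : Y.left, IsIntegrallyClosed (Y.left.presheaf.stalk q))
    {X X' : Scheme.{u}} (g : X ⟶ Y.left) (hg : Nice Y g)
    (hexc : ∀ (E : Scheme.{u}) (ι : E ⟶ X) [IsClosedImmersion ι], Models.IsExcCurve ι →
      ¬ ∃ y : Y.left, Set.range ((ι ≫ g).base : E → Y.left) = {y})
    (g' : X' ⟶ Y.left) (hg' : Nice Y g') : ∃! h : X' ⟶ X, h ≫ g = g' := by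
  haveI := hg.isProper; haveI := hg'.isProper; haveI := hg.noeth; haveI := hg'.noeth
  haveI : IsIntegral X' := hg'.surf.integral
  haveI : IsLocallyNoetherian Y.left := LocallyOfFiniteType.isLocallyNoetherian Y.hom
  obtain ⟨W₁, hW₁, hi₁⟩ := hg.bir
  obtain ⟨W₂, hW₂, hi₂⟩ := hg'.bir
  haveI := hi₁; haveI := hi₂
  let W := W₁ ⊓ W₂
  have hgW : genericPoint Y.left ∈ W := ⟨((genericPoint_spec Y.left).mem_open_set_iff W₁.isOpen).mpr
    (by obtain ⟨u, hu⟩ := hW₁; exact ⟨u, trivial, hu⟩), ((genericPoint_spec Y.left).mem_open_set_iff W₂.isOpen).mpr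
    (by obtain ⟨u, hu⟩ := hW₂; exact ⟨u, trivial, hu⟩)⟩
  haveI : IsIso (g ∣_ W) := CurveBlowUp.isIso_restrict_of_le g inf_le_left
  haveI : IsIso (g' ∣_ W) := CurveBlowUp.isIso_restrict_of_le g' inf_le_right
  let U : X'.Opens := g' ⁻¹ᵁ W
  obtain ⟨v, -⟩ := (g' ∣_ W).surjective ⟨_, hgW⟩
  let φ : (U : Scheme.{u}) ⟶ X := (g' ∣_ W) ≫ inv (g ∣_ W) ≫ (g ⁻¹ᵁ W).ι
  have hφ : φ ≫ g = U.ι ≫ g' := by
    simp only [φ, U, Category.assoc, ← morphismRestrict_ι, IsIso.inv_hom_id_assoc]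
  obtain ⟨Z, b, h, hb, hw, hag⟩ := PointBlowUp.exists_extend_rational hg'.reg hg'.noChain g' g U
    ⟨_, v.2⟩ φ hφ
  obtain ⟨ψ, hψ⟩ := exists_descend hnor g hg hexc hb g' hg' h hw
  haveI : IsIntegral Z := (Nice.of_seq hb g' hg').surf.integral
  haveI : IsDominant b := by
    refine ⟨fun s => ?_⟩
    obtain ⟨W', hW', hi'⟩ := (Nice.of_seq hb g' hg').bir
    haveI := hi'
    let W'' := W ⊓ W'
    have hgW'' : genericPoint Y.left ∈ W'' := ⟨hgW, ((genericPoint_spec Y.left).mem_open_set_iff W'.isOpen).mpr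
      (by obtain ⟨u, hu⟩ := hW'; exact ⟨u, trivial, hu⟩)⟩
    haveI : IsIso (g' ∣_ W'') := CurveBlowUp.isIso_restrict_of_le g' (inf_le_left.trans inf_le_right)
    haveI : IsIso ((b ≫ g') ∣_ W'') := CurveBlowUp.isIso_restrict_of_le _ inf_le_right
    obtain ⟨v₂, hv₂⟩ := ((b ≫ g') ∣_ W'').surjective ⟨_, hgW''⟩
    have h1 : g' (b (((b ≫ g') ⁻¹ᵁ W'').ι v₂)) = genericPoint Y.left := by
      rw [← Scheme.Hom.comp_apply b g', ← Scheme.Hom.comp_apply _ (b ≫ g'), ← morphismRestrict_ι,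
        Scheme.Hom.comp_apply, hv₂]
      rfl
    have h2 : g' (genericPoint X') = genericPoint Y.left :=
      ((h1 ▸ (genericPoint_specializes (b (((b ≫ g') ⁻¹ᵁ W'').ι v₂))).map g'.continuous :
        g' (genericPoint X') ⤳ genericPoint Y.left).antisymm (genericPoint_specializes _)).eq
    have h3 : b (((b ≫ g') ⁻¹ᵁ W'').ι v₂) = genericPoint X' :=
      PointBlowUp.eq_of_restrict g' W'' (by rw [h1]; exact hgW'') (h1.trans h2.symm)
    have h4 : closure {genericPoint X'} ⊆ closure (Set.range b) := closure_mono (by rintro _ rfl; exact ⟨_, h3⟩)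
    exact h4 (by rw [genericPoint_closure]; trivial)
  haveI : Y.left.IsSeparated := ⟨by
    rw [show terminal.from Y.left = Y.hom ≫ terminal.from _ from Subsingleton.elim _ _]; infer_instance⟩
  have h2 : ψ ≫ g = g' := ext_of_isDominant b (by rw [← Category.assoc, hψ, hw])
  refine ⟨ψ, h2, fun ψ' h' => ?_⟩
  haveI : Nonempty (U : Scheme.{u}) := ⟨v⟩
  haveI : IsDominant U.ι := ⟨U.ι.isOpenEmbedding.isOpen_range.dense ⟨_, v, rfl⟩⟩
  refine ext_of_isDominant_of_isSeparated g (by rw [h', h2]) U.ι ?_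
  have key : ∀ χ : X' ⟶ X, χ ≫ g = g' → U.ι ≫ χ = φ := fun χ hχ => by
    refine PointBlowUp.eq_of_over_open g W ?_ fun w => ?_
    · rw [Category.assoc, hχ, hφ]
    · show (χ ≫ g) (U.ι w) ∈ W
      rw [hχ]; exact w.2
  rw [key ψ' h', key ψ h2]

end Groth.Agent.MinDesing
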